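import Mathlib

/-! # Adjunctions between additive functors induce adjunctions on homological complexes and,
for exact functors, on derived categories. -/

universe v v' u u' w w'
open CategoryTheory Limits

namespace Groth.Agent.LD.DAdj

variable {C : Type u} [Category.{v} C] [Preadditive C] {D : Type u'} [Category.{v'} D]
  [Preadditive D]
  {L : C ⥤ D} {R : D ⥤ C} (adj : L ⊣ R) [L.Additive] [R.Additive]
  {ι : Type*} (c : ComplexShape ι)

/-- the adjunction induced on homological complexes. -/
noncomputable def mapHCAdj : L.mapHomologicalComplex c ⊣ R.mapHomologicalComplex c :=
  Adjunction.mkOfUnitCounit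
    { unit :=
        { app := fun K =>
            { f := fun i => adj.unit.app (K.X i)
              comm' := fun i j _ => (adj.unit.naturality (K.d i j)).symm }
          naturality := fun K K' φ => by
            ext i
            exact adj.unit.naturality (φ.f i) }
      counit :=
        { app := fun K =>
            { f := fun i => adj.counit.app (K.X i)
              comm' := fun i j _ => (adj.counit.naturality (K.d i j)).symm }
          naturality := fun K K' φ => by
            ext i
            exact adj.counit.naturality (φ.f i) }
      left_triangle := by
        ext K i
        dsimp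
        rw [Category.id_comp]
        exact adj.left_triangle_components (K.X i)
      right_triangle := by
        ext K i
        dsimp
        rw [Category.id_comp]
        exact adj.right_triangle_components (K.X i) }

end Groth.Agent.LD.DAdj

namespace Groth.Agent.LD.DAdj

variable {C : Type u} [Category.{v} C] [Abelian C] {D : Type u'} [Category.{v'} D] [Abelian D]
  [HasDerivedCategory.{w} C] [HasDerivedCategory.{w'} D]
  {L : C ⥤ D} {R : D ⥤ C} (adj : L ⊣ R) [L.Additive] [R.Additive]
  [PreservesFiniteLimits L] [PreservesFiniteColimits L]
  [PreservesFiniteLimits R] [PreservesFiniteColimits R]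

/-- an adjunction between exact functors induces an adjunction on derived categories. -/
noncomputable def mapDerivedCategoryAdj : L.mapDerivedCategory ⊣ R.mapDerivedCategory :=
  letI : CatCommSq (L.mapHomologicalComplex (ComplexShape.up ℤ)) DerivedCategory.Q
      DerivedCategory.Q L.mapDerivedCategory := ⟨L.mapDerivedCategoryFactors.symm⟩
  letI : CatCommSq (R.mapHomologicalComplex (ComplexShape.up ℤ)) DerivedCategory.Q
      DerivedCategory.Q R.mapDerivedCategory := ⟨R.mapDerivedCategoryFactors.symm⟩
  (mapHCAdj adj (ComplexShape.up ℤ)).localization DerivedCategory.Q
    (HomologicalComplex.quasiIso C (ComplexShape.up ℤ)) DerivedCategory.Q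
    (HomologicalComplex.quasiIso D (ComplexShape.up ℤ)) L.mapDerivedCategory R.mapDerivedCategory

end Groth.Agent.LD.DAdj
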